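import Cfsg.Agent.FischerTypes.Prim

/-! Type M(24) along an isomorphism. -/

set_option autoImplicit false

open Cfsg

namespace Cfsg.Agent.M24Cent

open Cfsg.Agent.FischerTypes

theorem m24_transfer {G G' : Type*} [Group G] [Group G'] (e : G ≃* G') {D : Set G} (h : IsOfTypeM24 G D) :
    IsOfTypeM24 G' (e '' D) := by
  obtain ⟨hZ, d, hd, c, hc, hdc, h23, N, hN, ⟨q1⟩, ⟨q2⟩⟩ := h
  obtain ⟨f, hf⟩ := exists_closure_equiv e (image_partners (D := D) e d)
  obtain ⟨f₂, -⟩ := exists_closure_equiv e (S := {y : G | y ∈ D ∧ y ≠ d ∧ Commute d y} ∩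
      {y : G | y ∈ D ∧ y ≠ c ∧ Commute c y}) (by
        rw [Set.image_inter e.injective, image_partners, image_partners])
  haveI := hN
  haveI hN' : (N.map (quotCenter f₂).toMonoidHom).Normal := hN.map _ (quotCenter f₂).surjective
  refine ⟨center_bot e hZ, e d, ⟨d, hd, rfl⟩, e c, ⟨c, hc, rfl⟩, fun h' => hdc ?_, ?_,
    N.map (quotCenter f₂).toMonoidHom, hN',
    ⟨((quotCenter f₂).subgroupMap N).symm.trans q1⟩,
    ⟨(QuotientGroup.congr N (N.map (quotCenter f₂).toMonoidHom) (quotCenter f₂) rfl).symm.trans q2⟩⟩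
  · have := h'.map e.symm
    rwa [e.symm_apply_apply, e.symm_apply_apply] at this
  · rw [← image_mk e (image_partners (D := D) e d) f hf]
    exact m23_transfer (quotCenter f) h23

end Cfsg.Agent.M24Cent
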