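import Cfsg.Agent.ThreeTrans.CoverM24
import Cfsg.Agent.ThreeTrans.Relations

/-!
# A class of involutions with centralisers of the shape `2 × M(23)`

`Loc D E σ`: the members of `D` have the layers and centralisers of the transpositions of type M(24),
nothing is assumed about two members without a common neighbour; `σ` is a sign, `-1` on members.
-/

set_option autoImplicit false

open Cfsg
open Cfsg.Agent.ThreeTrans

universe u

namespace Cfsg.Agent.M24Cent

variable {G : Type u} [Group G] [Finite G]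

/-- What is known of the class from the centraliser of a member. -/
structure Loc (D : Set G) {X : Type u} [Group X] [Finite X] (E : Set X) (σ : G →* ℤˣ) : Prop where
  sq : ∀ a ∈ D, a * a = 1
  ne : ∀ a ∈ D, a ≠ 1
  conj : ∀ g : G, ∀ a ∈ D, g * a * g⁻¹ ∈ D
  trans : ∀ a ∈ D, ∀ b ∈ D, ∃ g : G, g * a * g⁻¹ = b
  sgn : ∀ a ∈ D, σ a = -1
  group : IsThreeTranspositionGroup E
  m23 : IsOfTypeM23 X E
  cov : ∀ b ∈ D, Cover24 D E b

variable {D : Set G} {X : Type u} [Group X] [Finite X] {E : Set X} {σ : G →* ℤˣ}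

theorem Loc.inv (hL : Loc D E σ) {a : G} (ha : a ∈ D) : a⁻¹ = a :=
  inv_eq_of_mul_eq_one_left (hL.sq a ha)

/-- The layers are sets of 3-transpositions closed under conjugation by their members. -/
theorem Loc.closed (hL : Loc D E σ) {a : G} (ha : a ∈ D) : ClosedSet (dperp D a) := by
  obtain ⟨χ, ψ, -, -, -, hψ⟩ := (hL.cov a ha).maps
  have hconj : ∀ x ∈ dperp D a, ∀ y ∈ dperp D a, x * y * x ∈ dperp D a := by
    intro x hx y hy
    have hxi : x⁻¹ = x := hL.inv hx.1
    refine ⟨by simpa [hxi] using hL.conj x y hy.1, fun h => hy.2.1 ?_,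
      (hx.2.2.mul_right hy.2.2).mul_right hx.2.2⟩
    calc y = x * x * y * (x * x) := by rw [hL.sq x hx.1, one_mul, mul_one]
      _ = x * (x * y * x) * x := by simp only [mul_assoc]
      _ = a := by rw [h, ← hx.2.2.eq, mul_assoc, hL.sq x hx.1, mul_one]
  refine ⟨⟨fun x hx => orderOf_eq_prime (by rw [pow_two]; exact hL.sq x hx.1) (hL.ne x hx.1),
    fun x hx y hy => ?_⟩, hconj⟩
  by_cases hxy : Commute x y
  · exact Or.inl (by rw [hxy.mul_pow, pow_two, pow_two, hL.sq x hx.1, hL.sq y hy.1, one_mul])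
  · refine Or.inr ?_
    have hb : x * y * x = y * x * y := hψ.bij.injOn (hconj x hx y hy) (hconj y hy x hx) (by
      rw [hψ.conj x hx y hy, hψ.conj y hy x hx]
      exact braid hL.group.1 (hψ.bij.mapsTo hx) (hψ.bij.mapsTo hy) fun h => hxy ((hψ.comm x hx y hy).1 h))
    calc (x * y) ^ 3 = x * y * x * (y * x * y) := by
          simp only [pow_succ, pow_zero, one_mul, mul_assoc]
      _ = x * (y * (x * x) * y) * x := by rw [← hb]; simp only [mul_assoc]
      _ = 1 := by rw [hL.sq x hx.1, mul_one, hL.sq y hy.1, mul_one, hL.sq x hx.1]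

/-- Two members with a common neighbour that do not commute braid. -/
theorem Loc.braid (hL : Loc D E σ) {v x y : G} (hv : v ∈ D) (hx : x ∈ dperp D v) (hy : y ∈ dperp D v)
    (h : ¬ Commute x y) : x * y * x = y * x * y :=
  ThreeTrans.braid (hL.closed hv).tri hx hy h

/-- Their product has order three. -/
theorem Loc.cube (hL : Loc D E σ) {v x y : G} (hv : v ∈ D) (hx : x ∈ dperp D v) (hy : y ∈ dperp D v)
    (h : ¬ Commute x y) : (x * y) ^ 3 = 1 :=
  cube_of_not_commute (hL.closed hv).tri hx hy h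

/-- The layers are moved to layers. -/
theorem Loc.dperp_conj (hL : Loc D E σ) (g : G) {a x : G} (hx : x ∈ dperp D a) :
    g * x * g⁻¹ ∈ dperp D (g * a * g⁻¹) :=
  ThreeTrans.dperp_conj hL.conj g hx

end Cfsg.Agent.M24Cent
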