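import Cfsg.Agent.M24Cent.Chart
import Cfsg.Agent.ThreeTrans.Y542.Relator

/-!
# The relation of length seventeen

The proof of `ThreeTrans.Y542.rel17`; the rigidity of pairs replaces the 3-transpositions.
-/

set_option autoImplicit false
set_option maxRecDepth 100000

open Cfsg

universe u

namespace Cfsg.Agent.M24Cent

open ThreeTrans ThreeTrans.Y542
open ThreeTrans.Y332 (ev ev_append ev_cons ev_nil pw ev_pw)

variable {G : Type u} [Group G] [Finite G] {D : Set G} {X : Type u} [Group X] [Finite X] {E : Set X}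
  {σ : G →* ℤˣ}

/-- The seventeenth power of the product. -/
theorem Loc.rel17 (hL : Loc D E σ) (hP : PairRigid D σ) {l k : G} {g : ℕ → G}
    {θ : ↥(Subgroup.centralizer ({l} : Set G)) →* F23} (hC : IsChart D σ l g θ) (hk : k ∈ D)
    (hkl : ¬ Commute k l) (hkg : ∀ x < 10, (Commute k (g x) ↔ x ≠ 0)) :
    (ev g qW * k * l) ^ 17 = 1 := by
  have hkev : ∀ u : List ℕ, (∀ x ∈ u, 0 < x ∧ x < 10) → Commute k (ev g u) := by
    intro u
    induction u with
    | nil => exact fun _ => Commute.one_right k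
    | cons x u ih =>
      intro hu
      simp only [List.mem_cons, forall_eq_or_imp] at hu
      rw [ev_cons]
      exact ((hkg x hu.1.2).2 (by omega)).mul_right (ih hu.2)
  have hmem : ∀ {x : Nat} {v : List Nat}, isPal x v = true → ev g v ∈ dperp D l := fun {x v} h => by
    rw [of_decide_eq_true h]
    exact hL.word_mem hC _ _
  have hp := pals
  simp only [Bool.and_eq_true, List.all_eq_true] at hp
  obtain ⟨⟨⟨⟨pt, pu⟩, pm⟩, -⟩, pn⟩ := hp
  have ht := t_checks
  simp only [Bool.and_eq_true, decide_eq_true_eq, List.all_eq_true] at ht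
  obtain ⟨⟨⟨⟨⟨⟨⟨⟨⟨ctu, ntu⟩, etu⟩, em⟩, cmq⟩, ltu⟩, ltm⟩, qtu⟩, qm⟩, hR⟩ := ht
  have hcu := ctu
  simp only [cmCheck, Bool.and_eq_true] at hcu
  -- the member `t` of a second class
  have hkt : Commute k (ev g tW) := by
    have hut : ev g uW ∈ dperp D (ev g tW) :=
      ⟨(hmem pu).1, fun e => hC.ev_ne hcu.1.1 hcu.1.2 ntu e.symm, hC.commute_ev ctu⟩
    have hr : Commute k (ev g tW * ev g uW) := by
      rw [← ev_append, hC.ev_eq etu ltu qtu]
      exact hkev _ fun x hx => hR x (by simp [hx])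
    have hlr : Commute l (ev g tW * ev g uW) := (hmem pt).2.2.mul_right (hmem pu).2.2
    have h3k : k ∈ dperp D (g 3) :=
      ⟨hk, fun e => hkl (e ▸ (hC.mem 3).2.2.symm), ((hkg 3 (by norm_num)).2 (by norm_num)).symm⟩
    have h3l : l ∈ dperp D (g 3) := dperp_symm hC.hl (hC.mem 3)
    have hyt : Commute (k * l) (ev g tW) :=
      hP.commute (hmem pt).1 hut (by rw [map_mul, hC.sgn k hk, hC.sgn l hC.hl]; decide)
        (hL.cube (hC.mem 3).1 h3k h3l hkl) (hr.mul_left hlr)
    have hkl' : k = k * l * l⁻¹ := (mul_inv_cancel_right k l).symm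
    rw [hkl']
    exact hyt.mul_left (hmem pt).2.2.inv_left
  set m := ev g mW with hm
  have hkm : Commute k m := by
    rw [hm, ← hC.ev_eq em ltm qm, ev_append, ev_append]
    exact ((hkev _ fun x hx => hR x (by simp [List.mem_reverse.1 hx])).mul_right hkt).mul_right
      (hkev _ fun x hx => hR x (by simp [hx]))
  have hml : m ∈ dperp D l := hmem pm
  have hlm : l ∈ dperp D m := dperp_symm hC.hl hml
  have hkM : k ∈ dperp D m := ⟨hk, fun e => hkl (e ▸ hml.2.2.symm), hkm.symm⟩
  obtain ⟨χ, ψ, -, hker, hagree, hiso⟩ := (hL.cov m hml.1).maps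
  -- nine members commuting with `l` and `m`
  set n : ℕ → G := fun x => ev g (nW x) with hn
  have hnm : ∀ x < 9, n x ∈ dperp D m ∧ (Commute k (n x) ↔ x ≠ 6) := by
    intro x hx
    have h := List.all_eq_true.1 n_checks x (List.mem_range.2 hx)
    simp only [Bool.and_eq_true, decide_eq_true_eq, List.all_eq_true] at h
    obtain ⟨⟨⟨⟨⟨he, hlt⟩, hq⟩, hR'⟩, hc⟩, hne⟩ := h
    have hc' := hc
    simp only [cmCheck, Bool.and_eq_true] at hc'
    refine ⟨⟨(hmem (pn x (List.mem_range.2 hx))).1,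
      fun e => hC.ev_ne hc'.1.1 hc'.1.2 hne e.symm, hC.commute_ev hc⟩, ?_⟩
    have hcU : Commute k (ev g (nC x)) := hkev _ fun y hy => hR' y (by simp [hy])
    have hcU' : Commute k (ev g (nC x).reverse) := hkev _ fun y hy => hR' y (by
      simp [List.mem_reverse.1 hy])
    show Commute k (ev g (nW x)) ↔ x ≠ 6
    rw [← hC.ev_eq he hlt hq, ev_append, ev_append]
    by_cases h6 : x = 6
    · refine iff_of_false (fun hc2 => ?_) (fun h' => h' h6)
      have h3 := (hcU'.inv_right.mul_right hc2).mul_right hcU.inv_right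
      simp only [inv_mul_cancel_left, mul_assoc, mul_inv_cancel, mul_one] at h3
      rw [nU, if_pos h6] at h3
      exact (hkg 0 (by norm_num)).1 (by simpa using h3) rfl
    · refine iff_of_true ?_ h6
      rw [nU, if_neg h6]
      exact (hcU'.mul_right hkt).mul_right hcU
  set N : ℕ → X := fun x => ψ (n x) with hN
  have hcfg : ThreeTrans.Y332.Cfg E N := by
    refine ⟨fun x hx => hiso.bij.mapsTo (hnm x hx).1, fun x hx y hy => ?_⟩
    rw [hN, hiso.comm _ (hnm x hx).1 _ (hnm y hy).1]
    have h := List.all_eq_true.1 (List.all_eq_true.1 nadj_checks x (List.mem_range.2 hx)) y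
      (List.mem_range.2 hy)
    split_ifs at h with hadj
    · exact iff_of_false (hC.not_commute_ev h) (by simp [hadj])
    · exact iff_of_true (hC.commute_ev h) (by simpa using hadj)
  have hNL : ∀ x < 9, N x ∈ dperp E (ψ l) := fun x hx =>
    ⟨hiso.bij.mapsTo (hnm x hx).1,
      fun e => (hmem (pn x (List.mem_range.2 hx))).2.1 (hiso.bij.injOn (hnm x hx).1 hlm e),
      (hiso.comm _ hlm _ (hnm x hx).1).2 (hmem (pn x (List.mem_range.2 hx))).2.2⟩
  obtain ⟨e, he⟩ := ThreeTrans.Y342.iso_of_cfg hL.group (prim_M23 hL.group hL.m23) hL.m23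
    (hiso.bij.mapsTo hlm) (hiso.bij.mapsTo hkM)
    (fun h => hkl ((hiso.comm _ hlm _ hkM).1 h).symm) hcfg hNL fun x hx => by
      rw [hN, hiso.comm _ (hnm x hx).1 _ hkM, Commute.symm_iff]
      exact (hnm x hx).2
  have hen : ∀ x < 9, e (gw [tn x]) = N x := by
    intro x hx
    have hd : gw [tn x] = PresentedGroup.of (CosetCert.Fi23Index31671.dec (tn x)).1 := by
      interval_cases x <;> rfl
    rw [hd, he, tn_gen23 x hx, if_neg (by omega)]
  have hek : e (gw [7]) = ψ k := by
    rw [show gw [7] = PresentedGroup.of Spor.Fi23.Gen.j from rfl, he]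
    rfl
  -- elements of the centraliser of `m`
  have key : ∀ v : List ℕ, (∀ x ∈ v, x < 9) → ∃ h : ev g (v.flatMap nW) ∈
      Subgroup.centralizer ({m} : Set G), χ ⟨_, h⟩ = e (gw (v.map tn)) := by
    intro v
    induction v with
    | nil => exact fun _ => ⟨one_mem _, by rw [List.map_nil, gw_nil, map_one]; exact map_one χ⟩
    | cons x v ih =>
      intro hv
      simp only [List.mem_cons, forall_eq_or_imp] at hv
      obtain ⟨h, hh⟩ := ih hv.2
      have hx := (hnm x hv.1).1
      refine ⟨by rw [List.flatMap_cons, ev_append]; exact mul_mem (dperp_le hx) h, ?_⟩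
      rw [List.map_cons, gw_cons, map_mul, hen x hv.1, ← hh, hN]
      simp only [hagree ⟨n x, dperp_le hx⟩ hx, ← map_mul]
      congr 1
      ext
      simp [hn]
  have hv := v_checks
  simp only [Bool.and_eq_true, decide_eq_true_eq, List.all_eq_true] at hv
  obtain ⟨⟨⟨ev1, ev2⟩, ev3⟩, ev4⟩ := hv
  obtain ⟨hq, hqχ⟩ := key vW ev4
  obtain ⟨hl', hlχ⟩ := key (pw ThreeTrans.Y332.wx 9) (by decide)
  have hlev : ev g ((pw ThreeTrans.Y332.wx 9).flatMap nW) = l := by
    refine hC.ext (hC.ev_mem _) (Subgroup.mem_centralizer_singleton_iff.2 rfl) ?_ ?_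
    · have hlt : lt10 ((pw ThreeTrans.Y332.wx 9).flatMap nW) = true := by
        have := l_check.1
        simp only [idCheck, Bool.and_eq_true] at this
        exact this.1
      rw [hC.theta_ev (lt10_spec hlt), gw_eq_one l_check.1]
      exact ((hC.ker _).2 (Or.inr rfl)).symm
    · rw [hC.sign_ev, hC.sgn l hC.hl, Int.units_pow_eq_pow_mod_two, l_check.2, pow_one]
  set Q : ↥(Subgroup.centralizer ({m} : Set G)) :=
    ⟨_, hq⟩ * ⟨k, dperp_le hkM⟩ * ⟨_, hl'⟩ with hQ
  have hQv : (Q : G) = ev g qW * k * l := by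
    rw [hQ, Subgroup.coe_mul, Subgroup.coe_mul]
    simp only [hlev, hC.ev_eq ev1 ev2 ev3]
  have hzw : (pw ThreeTrans.Y332.wx 9).map tn = Fi23Centralizer.zWord := by decide +kernel
  have hQχ : χ Q = e (gw (vW.map tn ++ 7 :: Fi23Centralizer.zWord)) := by
    rw [hQ, map_mul, map_mul, hqχ, hlχ, ← hagree ⟨k, dperp_le hkM⟩ hkM, ← hek, hzw, ← map_mul,
      ← map_mul, gw_append, gw_cons 7 Fi23Centralizer.zWord, mul_assoc]
  have hQ17 : χ (Q ^ 17) = 1 := by
    rw [map_pow, hQχ, ← map_pow]
    rw [show gw (vW.map tn ++ 7 :: Fi23Centralizer.zWord) ^ 17 =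
      gw (List.replicate 17 (vW.map tn ++ 7 :: Fi23Centralizer.zWord)).flatten from ?_,
      gw_eq_one final_check, map_one]
    generalize vW.map tn ++ 7 :: Fi23Centralizer.zWord = v
    generalize 17 = i
    induction i with
    | zero => simp [gw_nil]
    | succ i ih => rw [pow_succ', ih, List.replicate_succ, List.flatten_cons, gw_append]
  rw [← hQv, ← SubmonoidClass.coe_pow]
  refine ((hker _).1 hQ17).resolve_right fun h => ?_
  have h1 := congrArg σ h
  rw [SubmonoidClass.coe_pow, hQv, map_pow, map_mul, map_mul, hC.sign_ev, hC.sgn k hk,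
    hC.sgn l hC.hl, hC.sgn m hml.1, Int.units_pow_eq_pow_mod_two] at h1
  revert h1
  decide +kernel

end Cfsg.Agent.M24Cent
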