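import Cfsg.Agent.M24Cent.Config
import Cfsg.Agent.M24Cent.Relator
import Cfsg.Agent.ThreeTrans.Y542.Iso
import Cfsg.Agent.Fi24.Transp

/-!
# The presented Fi₂₄ inside a group with such a class
-/

set_option autoImplicit false
set_option maxRecDepth 100000

open Cfsg

universe u

namespace Cfsg.Agent.M24Cent

open ThreeTrans ThreeTrans.Y542
open ThreeTrans.Y332 (ev ev_append ev_cons ev_nil pw ev_pw)
open Cfsg.Spor Cfsg.Spor.Fi24

variable {G : Type u} [Group G] [Finite G] {D : Set G} {X : Type u} [Group X] [Finite X] {E : Set X}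
  {σ : G →* ℤˣ}

theorem ne03_check : neCheck ([0] ++ [3].reverse) = true := by decide +kernel

/-- The presented Fi₂₄ embeds, its transpositions going to members. -/
theorem Loc.exists_embed (hL : Loc D E σ) (hPR : PairRigid D σ) {l : G} (hl : l ∈ D) :
    ∃ phi : Agent.Fi24.G →* G, Function.Injective phi ∧ ∀ x ∈ Agent.Fi24.D, phi x ∈ D := by
  obtain ⟨k, g, θ, hC, hk, hkl, hkg⟩ := hL.exists_cfg hl
  have hg1 : ∀ x, ev g [x] = g x := fun x => by simp
  set F : ℕ → G := fun x => if x = 10 then k else if x = 11 then l else g x with hF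
  have hF10 : ∀ x < 10, F x = g x := fun x hx => by
    simp only [hF, if_neg (by omega : x ≠ 10), if_neg (by omega : x ≠ 11)]
  have hFk : F 10 = k := rfl
  have hFl : F 11 = l := rfl
  have hFD : ∀ x, F x ∈ D := fun x => by
    simp only [hF]; split_ifs
    exacts [hk, hC.hl, (hC.mem x).1]
  have hc12 : ∀ x < 12, ∀ y < 12, (Commute (F x) (F y) ↔ adj12 x y = false) := by
    suffices key : ∀ x < 12, ∀ y < 12, y ≤ x → (Commute (F x) (F y) ↔ adj12 x y = false) by
      intro x hx y hy
      rcases le_total y x with h | h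
      · exact key x hx y hy h
      · rw [Commute.symm_iff, adj12_symm x hx y hy]
        exact key y hy x hx h
    intro x hx y hy hyx
    rcases lt_or_ge x 10 with hx10 | hx10
    · rw [hF10 x hx10, hF10 y (by omega)]
      have h := List.all_eq_true.1 (List.all_eq_true.1 adj12_checks x (List.mem_range.2 hx10)) y
        (List.mem_range.2 (by omega : y < 10))
      split_ifs at h with hadj
      · refine iff_of_false ?_ (by simp [hadj])
        simpa [hg1] using hC.not_commute_ev h
      · refine iff_of_true ?_ (by simpa using hadj)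
        simpa [hg1] using hC.commute_ev h
    interval_cases x
    · rw [hFk]
      rcases lt_or_ge y 10 with hy10 | hy10
      · rw [hF10 y hy10, k_adj y hy10, hkg y hy10]
        simp
      · obtain rfl : y = 10 := by omega
        exact iff_of_true (hFk ▸ Commute.refl k) rfl
    · rw [hFl]
      rcases lt_or_ge y 10 with hy10 | hy10
      · rw [hF10 y hy10]
        exact iff_of_true (hC.mem y).2.2 (l_adj y hy10)
      · interval_cases y
        · exact iff_of_false (fun h => hkl h.symm) (by decide)
        · exact iff_of_true (hFl ▸ Commute.refl l) rfl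
  -- the path `i h d c b a k l`
  set P : ℕ → G := fun s => F (pn s) with hP
  have hpn : ∀ s < 8, pn s < 12 := by decide
  have h3k : k ∈ dperp D (g 3) :=
    ⟨hk, fun e => hkl (e ▸ (hC.mem 3).2.2.symm), ((hkg 3 (by norm_num)).2 (by norm_num)).symm⟩
  have h3l : l ∈ dperp D (g 3) := dperp_symm hC.hl (hC.mem 3)
  have h30 : g 0 ∈ dperp D (g 3) := by
    refine ⟨(hC.mem 0).1, fun e => ?_, ?_⟩
    · exact hC.ev_ne (u := [0]) (v := [3]) rfl rfl ne03_check (by rw [hg1, hg1]; exact e)
    · have := (hc12 3 (by norm_num) 0 (by norm_num)).2 rfl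
      rwa [hF10 3 (by norm_num), hF10 0 (by norm_num)] at this
  -- joined generators have a common neighbour
  have hnb : ∀ x < 12, ∀ y < 12, adj12 x y = true →
      ∃ v ∈ D, F x ∈ dperp D v ∧ F y ∈ dperp D v := by
    suffices key : ∀ x < 12, ∀ y < 12, y ≤ x → adj12 x y = true →
        ∃ v ∈ D, F x ∈ dperp D v ∧ F y ∈ dperp D v by
      intro x hx y hy h
      rcases le_total y x with h' | h'
      · exact key x hx y hy h' h
      · obtain ⟨v, hv, h1, h2⟩ := key y hy x hx h' (by rw [adj12_symm y hy x hx]; exact h)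
        exact ⟨v, hv, h2, h1⟩
    intro x hx y hy hyx h
    rcases lt_or_ge x 10 with hx10 | hx10
    · rw [hF10 x hx10, hF10 y (by omega)]
      exact ⟨l, hC.hl, hC.mem x, hC.mem y⟩
    interval_cases x
    · rcases lt_or_ge y 10 with hy10 | hy10
      · rw [k_adj y hy10] at h
        obtain rfl : y = 0 := of_decide_eq_true h
        exact ⟨g 3, (hC.mem 3).1, hFk ▸ h3k, by rw [hF10 0 (by norm_num)]; exact h30⟩
      · exact ⟨g 3, (hC.mem 3).1, hFk ▸ h3k, by
          obtain rfl : y = 10 := by omega
          exact hFk ▸ h3k⟩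
    · rcases lt_or_ge y 10 with hy10 | hy10
      · rw [l_adj y hy10] at h; simp at h
      · refine ⟨g 3, (hC.mem 3).1, hFl ▸ h3l, ?_⟩
        interval_cases y
        · exact hFk ▸ h3k
        · exact hFl ▸ h3l
  have hbraid : ∀ x < 12, ∀ y < 12, adj12 x y = true → F x * F y * F x = F y * F x * F y :=
    fun x hx y hy h => by
      obtain ⟨v, hv, h1, h2⟩ := hnb x hx y hy h
      exact hL.braid hv h1 h2 fun hc => by rw [(hc12 x hx y hy).1 hc] at h; simp at h
  have hr : Path.Rels P := ⟨fun s _ => hL.sq _ (hFD _),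
    fun s hs t ht h => hbraid _ (hpn s hs) _ (hpn t ht) (by rw [← path_adj s hs t ht]; exact h),
    fun s hs t ht h => (hc12 _ (hpn s hs) _ (hpn t ht)).2 (by rw [← path_adj s hs t ht, h])⟩
  set Γ := Path.ev P Path.wg
  have hΓ : ∀ s < 8, Γ * P s * Γ⁻¹ = P (7 - s) := fun s hs => by
    rw [Path.wg_conj hr hs, mul_inv_cancel_right]
  have hfix : ∀ x, x = 5 ∨ x = 6 ∨ x = 7 → Γ * g x * Γ⁻¹ = g x := by
    intro x hx
    have hcw : ∀ v : List ℕ, (∀ s ∈ v, s < 8) → Commute (Path.ev P v) (g x) := by
      intro v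
      induction v with
      | nil => exact fun _ => Commute.one_left _
      | cons s v ih =>
        intro hv
        simp only [List.mem_cons, forall_eq_or_imp] at hv
        rw [Path.ev_cons]
        refine Commute.mul_left ?_ (ih hv.2)
        rw [hP, ← hF10 x (by omega)]
        obtain ⟨h5, h6, h7⟩ := path_far s hv.1
        refine (hc12 _ (hpn s hv.1) x (by omega)).2 ?_
        rcases hx with rfl | rfl | rfl <;> assumption
    rw [(hcw _ Path.wg_lt).eq, mul_inv_cancel_right]
  -- the image of `e`
  set β := Γ * g 4 * Γ⁻¹ with hβ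
  have hβD : β ∈ D := hL.conj _ _ (hC.mem 4).1
  have himg : ∀ x < 10, ∀ y < 12, Γ * F y * Γ⁻¹ = g x →
      (Commute (g x) β ↔ adj12 y 4 = false) := by
    intro x _ y hy h
    rw [← h, hβ, Commute.conj_iff, ← hF10 4 (by norm_num)]
    exact hc12 y hy 4 (by norm_num)
  have hl0 : Γ * g 9 * Γ⁻¹ = l := by
    have := hΓ 0 (by norm_num)
    simpa [hP, pn, hF] using this
  have hβl : β ∈ dperp D l := by
    refine ⟨hβD, fun e => ?_, ?_⟩
    · rw [← hl0, hβ] at e
      have h := mul_left_cancel (mul_right_cancel e)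
      refine hC.ev_ne (u := [4]) (v := [9]) rfl rfl (by decide +kernel) (by rw [hg1, hg1]; exact h)
    · rw [← hl0, hβ, Commute.conj_iff, ← hF10 4 (by norm_num), ← hF10 9 (by norm_num)]
      exact (hc12 9 (by norm_num) 4 (by norm_num)).2 rfl
  have hβev : β = ev g bW := by
    obtain ⟨b1, b2, b3, b4, b5⟩ := b_checks
    have hbm : ev g bW ∈ dperp D l := by
      rw [of_decide_eq_true b4]
      exact hL.word_mem hC _ _
    refine hC.ext (dperp_le hβl) (dperp_le hbm) ?_ ?_
    swap
    · rw [hC.sgn _ hβD, hC.sign_ev, Int.units_pow_eq_pow_mod_two, b5, pow_one]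
    refine eq_of_pattern b1 (hC.conj _ hβl _) (hC.conj _ hbm _) (fun p hp => ?_) fun p hp => ?_
    · have hp10 : p.1 < 10 := by revert p; decide
      have hiff : Commute (g p.1) β ↔ p.2 = true := by
        simp only [bPat, List.mem_cons, List.not_mem_nil, or_false] at hp
        rcases hp with rfl | rfl | rfl | rfl | rfl | rfl | rfl | rfl | rfl
        · rw [himg 0 (by norm_num) 3 (by norm_num) (by simpa [hP, pn, hF] using hΓ 2 (by norm_num))]
          decide
        · rw [himg 5 (by norm_num) 5 (by norm_num) (by rw [hF10 5 (by norm_num)]; exact hfix 5 (by simp))]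
          decide
        · rw [himg 1 (by norm_num) 2 (by norm_num) (by simpa [hP, pn, hF] using hΓ 3 (by norm_num))]
          decide
        · rw [himg 2 (by norm_num) 1 (by norm_num) (by simpa [hP, pn, hF] using hΓ 4 (by norm_num))]
          decide
        · rw [himg 3 (by norm_num) 0 (by norm_num) (by simpa [hP, pn, hF] using hΓ 5 (by norm_num))]
          decide
        · rw [himg 8 (by norm_num) 10 (by norm_num) (by simpa [hP, pn, hF] using hΓ 6 (by norm_num))]
          decide
        · rw [himg 9 (by norm_num) 11 (by norm_num) (by simpa [hP, pn, hF] using hΓ 7 (by norm_num))]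
          decide
        · rw [himg 6 (by norm_num) 6 (by norm_num) (by rw [hF10 6 (by norm_num)]; exact hfix 6 (by simp))]
          decide
        · rw [himg 7 (by norm_num) 7 (by norm_num) (by rw [hF10 7 (by norm_num)]; exact hfix 7 (by simp))]
          decide
      rw [← hC.img p.1 hp10 (dperp_le (hC.mem p.1)), ← hiff]
      exact ⟨IsChart.commute_of_theta hC _ _, hC.theta_commute _ _⟩
    · have h := List.all_eq_true.1 b2 p hp
      rw [hC.theta_ev (lt10_spec b3)]
      cases hb : p.2
      · rw [hb] at h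
        exact iff_of_false (not_commute_of h) Bool.false_ne_true
      · rw [hb] at h
        exact iff_of_true (commute_of h) rfl
  have h17 := hL.rel17 hPR hC hk hkl hkg
  -- the homomorphism
  set f : Gen → G := fun x => F (num x) with hf
  have hnum : ∀ x, num x < 12 := fun x => by cases x <;> decide
  have hinjn : ∀ x y, num x = num y → x = y := fun x y => by cases x <;> cases y <;> simp [num]
  have hrel : ∀ r ∈ coxRelators edges ∪ {r | r ∈ extra}, FreeGroup.lift f r = 1 := by
    rintro r (⟨x, -, y, -, rfl⟩ | hr')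
    · rw [map_pow, map_mul, FreeGroup.lift_apply_of, FreeGroup.lift_apply_of, label_eq]
      split_ifs with hxy hadj
      · subst hxy
        rw [pow_one]
        exact hL.sq _ (hFD _)
      · obtain ⟨v, hv, h1, h2⟩ := hnb _ (hnum x) _ (hnum y) hadj
        exact hL.cube hv h1 h2 fun h => by rw [(hc12 _ (hnum x) _ (hnum y)).1 h] at hadj; simp at hadj
      · have h : Commute (f x) (f y) := (hc12 _ (hnum x) _ (hnum y)).2 (by simpa using hadj)
        rw [h.mul_pow, pow_two, pow_two, hL.sq _ (hFD _), one_mul, hL.sq _ (hFD _)]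
    · simp only [extra, List.mem_cons, List.not_mem_nil, or_false, Set.mem_ofPred_eq] at hr'
      rcases hr' with rfl | rfl
      · simp only [map_pow, map_mul, map_inv, FreeGroup.lift_apply_of, hf, num, hF,
          if_true, (by decide : (11 : ℕ) ≠ 10), (by decide : (0 : ℕ) ≠ 10), (by decide : (1 : ℕ) ≠ 10),
          (by decide : (2 : ℕ) ≠ 10), (by decide : (3 : ℕ) ≠ 10), (by decide : (4 : ℕ) ≠ 10),
          (by decide : (5 : ℕ) ≠ 10), (by decide : (8 : ℕ) ≠ 10), (by decide : (0 : ℕ) ≠ 11),
          (by decide : (1 : ℕ) ≠ 11), (by decide : (2 : ℕ) ≠ 11), (by decide : (3 : ℕ) ≠ 11),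
          (by decide : (4 : ℕ) ≠ 11), (by decide : (5 : ℕ) ≠ 11), (by decide : (8 : ℕ) ≠ 11), if_false]
        rw [mul_inv_eq_one,
          show g 0 * g 1 * g 2 * g 3 * g 4 * g 5 * g 8 = ev g [0, 1, 2, 3, 4, 5, 8] from by
            simp [mul_assoc], ← ev_pw]
        refine hC.ext (Subgroup.mem_centralizer_singleton_iff.2 rfl) (hC.ev_mem _) ?_ ?_
        · rw [hC.theta_ev (by decide), gw_eq_one extra1_check]
          exact (hC.ker _).2 (Or.inr rfl)
        · rw [hC.sign_ev, hC.sgn l hC.hl, Int.units_pow_eq_pow_mod_two]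
          simp [pw]
      · simp only [map_pow, map_mul, FreeGroup.lift_apply_of, hf, num]
        refine (MulAut.conj Γ).injective ?_
        have q : ∀ s < 8, MulAut.conj Γ (F (pn s)) = F (pn (7 - s)) := fun s hs => hΓ s hs
        have q5 : ∀ x, x = 5 ∨ x = 6 ∨ x = 7 → MulAut.conj Γ (F x) = g x := fun x hx => by
          rw [hF10 x (by omega)]; exact hfix x hx
        have q4 : MulAut.conj Γ (F 4) = ev g bW := by
          rw [hF10 4 (by norm_num), MulAut.conj_apply, ← hβev]
        have i3 : MulAut.conj Γ (F 3) = g 0 := (q 2 (by norm_num)).trans (hF10 0 (by norm_num))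
        have i2 : MulAut.conj Γ (F 2) = g 1 := (q 3 (by norm_num)).trans (hF10 1 (by norm_num))
        have i1 : MulAut.conj Γ (F 1) = g 2 := (q 4 (by norm_num)).trans (hF10 2 (by norm_num))
        have i0 : MulAut.conj Γ (F 0) = g 3 := (q 5 (by norm_num)).trans (hF10 3 (by norm_num))
        have i10 : MulAut.conj Γ (F 10) = g 8 := (q 6 (by norm_num)).trans (hF10 8 (by norm_num))
        have i11 : MulAut.conj Γ (F 11) = g 9 := (q 7 (by norm_num)).trans (hF10 9 (by norm_num))
        have i8 : MulAut.conj Γ (F 8) = k := q 1 (by norm_num)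
        have i9 : MulAut.conj Γ (F 9) = l := q 0 (by norm_num)
        simp only [map_pow, map_mul, map_one, i3, i2, i1, i0, i10, i11, i8, i9, q4,
          q5 5 (by simp), q5 6 (by simp), q5 7 (by simp)]
        refine Eq.trans ?_ h17
        congr 1
        simp [qW, ev_append, mul_assoc]
  set Φ := PresentedGroup.toGroup hrel
  have hΦ : ∀ x, Φ (PresentedGroup.of x) = f x := fun x => PresentedGroup.toGroup.of hrel
  -- injective
  have hinj : Function.Injective Φ := by
    rw [← MonoidHom.ker_eq_bot_iff]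
    by_contra hne
    have h2 : Φ.ker.index ≤ 2 := Agent.Fi24.index_le_two Φ.normal_ker hne
    replace h2 : (Φ.range : Set G).ncard ≤ 2 := by
      rw [Subgroup.index_ker] at h2
      exact le_of_eq_of_le (Nat.card_coe_set_eq _).symm h2
    have hmem : ∀ y : Gen, f y ∈ (Φ.range : Set G) := fun y => ⟨PresentedGroup.of y, hΦ y⟩
    have hsub : ({1, l, k} : Set G) ⊆ (Φ.range : Set G) := by
      rintro x (rfl | rfl | rfl)
      exacts [one_mem Φ.range, hmem .l, hmem .k]
    have h3 : ({1, l, k} : Set G).ncard = 3 := Set.ncard_eq_three.2 ⟨1, l, k,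
      (hL.ne l hC.hl).symm, (hL.ne k hk).symm, fun e => hkl (e ▸ Commute.refl l), rfl⟩
    have h4 := Set.ncard_le_ncard hsub (Set.toFinite _)
    rw [h3] at h4
    omega
  refine ⟨Φ, hinj, fun x hx => ?_⟩
  obtain ⟨a, rfl⟩ := Agent.Fi24.mem_D.1 hx
  rw [map_mul, map_mul, map_inv]
  refine hL.conj _ _ ?_
  rw [show Φ Agent.Fi24.L = f .l from hΦ .l]
  exact hFD _

end Cfsg.Agent.M24Cent
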