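import Cfsg.Agent.M24Cent.Type23
import Cfsg.Agent.M24Cent.Local
import Cfsg.Agent.FischerTypes.M24
import Cfsg.Agent.ThreeTrans.InvolM24
import Cfsg.Agent.Invol.Pair

/-!
# The embedded group is everything

An element outside would move a central involution out; its product with a quadruple gives a contradiction.
-/

set_option autoImplicit false

open Cfsg
open Cfsg.Agent.ThreeTrans

universe u w

namespace Cfsg.Agent.M24Cent

theorem ncard_M23 {Y : Type u} [Group Y] [Finite Y] {E : Set Y} (hE : IsThreeTranspositionGroup E)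
    (h23 : IsOfTypeM23 Y E) : E.ncard = 31671 := by
  have hp := prim_M23 hE h23
  obtain ⟨W, _, _, E₀, hE₀, -, h22, hcov⟩ := exists_cover23 hE hp h23
  obtain ⟨-, ⟨a, ha, -⟩, -⟩ := class_of_primitive hE hp
  exact ncard_members23 hE (layers23 hE hE₀ h22 hcov) ha

variable {G : Type u} [Group G] [Finite G] {D : Set G} {X : Type u} [Group X] [Finite X] {E : Set X}
  {σ : G →* ℤˣ}
  {F : Type w} [Group F] [Finite F] {T : Set F} {Y : Type w} [Group Y] [Finite Y] {E' : Set Y}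

theorem range_eq_top_aux (hL : Loc D E σ) (hT : IsThreeTranspositionGroup T)
    (hZ : Subgroup.center F = ⊥) (hB : M24Base T E') (phi : F →* G) (hinj : Function.Injective phi)
    (hphi : ∀ x ∈ T, phi x ∈ D) {a b z : G} (Q : Subgroup G) (ha : a ∈ D) (hb : b ∈ dperp D a)
    (hz2 : z * z = 1) (hz1 : z ≠ 1) (hzσ : σ z = 1) (haz : Commute a z) (hnc : ¬ IsConj (a * b) z) (hzQ : z ∈ Q)
    (hQa : ∀ q ∈ Q, Commute (q * a * q⁻¹) a)
    (hCt : ∀ x, Commute x (a * b) → x ∈ Q ⊔ Subgroup.centralizer {a})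
    (hCz : ∀ x, Commute x z → σ x = 1 → x * (a * b) * x⁻¹ ∈ Q)
    {x0 : F} (hx0 : x0 ∈ T) (hax : phi x0 = a) : phi.range = ⊤ := by
  classical
  set S := phi.range with hS
  have hcls := hB.cls
  -- the layer of `a`
  obtain ⟨χ, ψ, -, hker, hagree, hψ⟩ := (hL.cov a ha).maps
  obtain ⟨φ', hφ'⟩ := hB.iso x0 hx0
  have hsub : phi '' dperp T x0 ⊆ dperp D a := by
    rintro - ⟨x, ⟨hx, hne, hc⟩, rfl⟩
    exact ⟨hphi x hx, fun e => hne (hinj (e.trans hax.symm)), hax ▸ hc.map phi⟩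
  have hlay : phi '' dperp T x0 = dperp D a := by
    refine Set.eq_of_subset_of_ncard_le hsub ?_ (Set.toFinite _)
    rw [Set.ncard_image_of_injective _ hinj, ← hψ.bij.injOn.ncard_image, hψ.bij.image_eq,
      ← hφ'.bij.injOn.ncard_image, hφ'.bij.image_eq, ncard_M23 hL.group hL.m23, ncard_M23 hB.group hB.m23]
  have hmemD : ∀ e ∈ dperp D a, e ∈ S := fun e he => by
    rw [← hlay] at he
    obtain ⟨x, -, rfl⟩ := he
    exact ⟨x, rfl⟩
  have haS : a ∈ S := ⟨x0, hax⟩
  have hCa : Subgroup.centralizer ({a} : Set G) ≤ S := by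
    intro x hx
    set A := S.subgroupOf (Subgroup.centralizer ({a} : Set G))
    have hE : Subgroup.closure E ≤ A.map χ := by
      rw [Subgroup.closure_le]
      intro k hk
      obtain ⟨e, he, rfl⟩ := hψ.bij.surjOn hk
      exact ⟨⟨e, Subgroup.mem_centralizer_singleton_iff.2 he.2.2.eq.symm⟩,
        Subgroup.mem_subgroupOf.2 (hmemD e he), (hagree _ he).symm⟩
    rw [hL.group.2.2] at hE
    obtain ⟨y, hy, hyx⟩ := hE (Subgroup.mem_top (χ ⟨x, hx⟩))
    have h1 : χ (y⁻¹ * ⟨x, hx⟩) = 1 := by rw [map_mul, map_inv, hyx, inv_mul_cancel]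
    have hy' : (y : G) ∈ S := Subgroup.mem_subgroupOf.1 hy
    rcases (hker _).1 h1 with h | h
    · rw [Subgroup.coe_mul, Subgroup.coe_inv, inv_mul_eq_one] at h
      exact (show (y : G) = x from h) ▸ hy'
    · rw [Subgroup.coe_mul, Subgroup.coe_inv, inv_mul_eq_iff_eq_mul] at h
      exact (show x = (y : G) * a from h) ▸ S.mul_mem hy' haS
  have hQ : Q ≤ S := by
    intro q hq
    have hc := hQa q hq
    have hd := hL.conj q a ha
    obtain ⟨y, hy, e⟩ : ∃ y ∈ T, phi y = q * a * q⁻¹ := by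
      by_cases h : q * a * q⁻¹ = a
      · exact ⟨x0, hx0, hax.trans h.symm⟩
      · have : q * a * q⁻¹ ∈ dperp D a := ⟨hd, h, hc.symm⟩
        rw [← hlay] at this
        obtain ⟨y, hy, e⟩ := this
        exact ⟨y, hy.1, e⟩
    obtain ⟨g, hg⟩ := class_isConj hcls hx0 hy
    have hm : (phi g)⁻¹ * q ∈ S := hCa (Subgroup.mem_centralizer_singleton_iff.2 (by
      have e2 : phi g * a * (phi g)⁻¹ = q * a * q⁻¹ := by rw [← e, ← hg, map_mul, map_mul, map_inv, hax]
      calc (phi g)⁻¹ * q * a = (phi g)⁻¹ * (q * a * q⁻¹) * q := by group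
        _ = a * ((phi g)⁻¹ * q) := by rw [← e2]; group))
    exact (Subgroup.mul_mem_cancel_left S (S.inv_mem ⟨g, rfl⟩)).1 hm
  have hbS : b ∈ S := hmemD b hb
  have habS : a * b ∈ S := S.mul_mem haS hbS
  have hzS : z ∈ S := hQ hzQ
  have hCab : ∀ x, Commute x (a * b) → x ∈ S := fun x hx => sup_le hQ hCa (hCt x hx)
  -- even involutions inside
  obtain ⟨hone, -⟩ := involution_classes_M24 hT hZ hB
  have hpar : ∀ {n : ℕ} {y : F} {k : List F}, Factor T n y k → σ (phi y) = (-1) ^ n := by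
    intro n y k hk
    obtain ⟨-, hlen, hmem, -, hp⟩ := hk
    subst hp hlen
    induction k with
    | nil => simp
    | cons v k ih =>
      rw [List.prod_cons, map_mul, map_mul, hL.sgn _ (hphi v (hmem v (List.mem_cons_self ..))),
        ih fun w hw => hmem w (List.mem_cons_of_mem _ hw), List.length_cons, pow_succ']
  have heven : ∀ {y : F}, y * y = 1 → y ≠ 1 → σ (phi y) = 1 →
      (∃ l, Factor T 2 y l) ∨ ∃ l, Factor T 4 y l := by
    intro y h2 h1 hs
    obtain ⟨m, hm1, hm4, l, hl⟩ := involution_M24 hT hZ hB h2 h1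
    have h := (hpar hl).symm.trans hs
    interval_cases m
    · exact absurd h (by decide)
    · exact Or.inl ⟨l, hl⟩
    · exact absurd h (by decide)
    · exact Or.inr ⟨l, hl⟩
  have hinv : ∀ {y : F}, phi y * phi y = 1 → phi y ≠ 1 → y * y = 1 ∧ y ≠ 1 := fun h2 h1 =>
    ⟨hinj (by rw [map_mul, h2, map_one]), fun e => h1 (by rw [e, map_one])⟩
  obtain ⟨yb, hyb, hybb⟩ : ∃ yb ∈ dperp T x0, phi yb = b := by
    rw [← hlay] at hb
    exact hb
  have hpair : ∃ l, Factor T 2 (x0 * yb) l := ⟨_, factor_pair hx0 hyb⟩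
  obtain ⟨yz, hyz⟩ := hzS
  have hquad : ∃ l, Factor T 4 yz l := by
    obtain ⟨h2, h1⟩ := hinv (y := yz) (by rw [hyz, hz2]) (by rw [hyz]; exact hz1)
    refine (heven h2 h1 (by rw [hyz]; exact hzσ)).resolve_left fun h => hnc ?_
    have := phi.map_isConj ((hone 2 (by norm_num) (by norm_num)).2 _ _ hpair h)
    rwa [map_mul, hax, hybb, hyz] at this
  have hclass : ∀ {v : G}, v ∈ S → v * v = 1 → v ≠ 1 → σ v = 1 →
      ∃ s ∈ S, s * v * s⁻¹ = a * b ∨ s * v * s⁻¹ = z := by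
    rintro v ⟨y, rfl⟩ hv2 hv1 hvσ
    obtain ⟨h2, h1⟩ := hinv hv2 hv1
    rcases heven h2 h1 hvσ with h | h
    · obtain ⟨g, hg⟩ := isConj_iff.1 ((hone 2 (by norm_num) (by norm_num)).2 _ _ h hpair)
      exact ⟨phi g, ⟨g, rfl⟩, Or.inl (by rw [← hax, ← hybb, ← map_mul phi x0, ← hg, map_mul, map_mul, map_inv])⟩
    · obtain ⟨g, hg⟩ := isConj_iff.1 ((hone 4 (by norm_num) (by norm_num)).2 _ _ h hquad)
      exact ⟨phi g, ⟨g, rfl⟩, Or.inr (by rw [← hyz, ← hg, map_mul, map_mul, map_inv])⟩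
  have hab2 : a * b * (a * b) = 1 := by
    rw [hb.2.2.symm.mul_mul_mul_comm, hL.sq a ha, hL.sq b hb.1, one_mul]
  have hab1 : a * b ≠ 1 := fun h => hb.2.1 (by rw [eq_inv_of_mul_eq_one_right h, hL.inv ha])
  have habσ : σ (a * b) = 1 := by rw [map_mul, hL.sgn a ha, hL.sgn b hb.1]; decide
  have hconjσ : ∀ (g v : G), σ (g * v * g⁻¹) = σ v := fun g v => by
    rw [map_mul, map_mul, map_inv, mul_comm (σ g), mul_inv_cancel_right]
  have hconj2 : ∀ (g v : G), v * v = 1 → g * v * g⁻¹ * (g * v * g⁻¹) = 1 := fun g v h => by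
    rw [show g * v * g⁻¹ * (g * v * g⁻¹) = g * (v * v) * g⁻¹ by group, h, mul_one, mul_inv_cancel]
  -- an element carrying `a * b` inside is inside
  have hmove : ∀ x : G, x * (a * b) * x⁻¹ ∈ S → x ∈ S := by
    intro x hx
    obtain ⟨s, hs, h | h⟩ := hclass hx (hconj2 x _ hab2) (fun e => hab1 (conj_eq_one_iff.1 e))
      ((hconjσ x _).trans habσ)
    · refine (Subgroup.mul_mem_cancel_left S hs).1 (hCab _ ?_)
      refine mul_inv_eq_iff_eq_mul.1 ?_
      conv_rhs => rw [← h]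
      group
    · refine absurd (isConj_iff.2 ⟨s * x, ?_⟩) hnc
      rw [← h]; group
  have hCz' : ∀ x, Commute x z → x ∈ S := by
    intro x hx
    rcases Int.units_eq_one_or (σ x) with h | h
    · exact hmove x (hQ (hCz x hx h))
    · refine (Subgroup.mul_mem_cancel_left S haS).1 (hmove _ (hQ (hCz _ (haz.mul_left hx) ?_)))
      rw [map_mul, hL.sgn a ha, h]; decide
  have hCv : ∀ {v : G}, v ∈ S → v * v = 1 → v ≠ 1 → σ v = 1 → ∀ x, Commute x v → x ∈ S := by
    intro v hv h2 h1 hs x hx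
    obtain ⟨s, hsS, h⟩ := hclass hv h2 h1 hs
    have hc : Commute (s * x * s⁻¹) (s * v * s⁻¹) := hx.map (MulAut.conj s).toMonoidHom
    have hm : s * x * s⁻¹ ∈ S := by
      rcases h with h | h <;> rw [h] at hc
      exacts [hCab _ hc, hCz' _ hc]
    exact (Subgroup.mul_mem_cancel_left S hsS).1 ((Subgroup.mul_mem_cancel_right S (S.inv_mem hsS)).1 hm)
  -- nothing is outside
  rw [Subgroup.eq_top_iff']
  intro g
  refine hmove g ?_
  by_contra hu
  set u := g * (a * b) * g⁻¹ with hudef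
  have hu2 : u * u = 1 := hconj2 g _ hab2
  have hu1 : u ≠ 1 := fun e => hab1 (conj_eq_one_iff.1 e)
  have hzo : orderOf z = 2 := orderOf_eq_prime (by rw [sq]; exact hz2) hz1
  have huo : orderOf u = 2 := orderOf_eq_prime (by rw [sq]; exact hu2) hu1
  rcases Nat.even_or_odd (orderOf (z * u)) with hev | hodd
  · obtain ⟨m, hm⟩ := hev
    set v := (z * u) ^ m with hv
    have hpos := orderOf_pos (z * u)
    have hv1 : v ≠ 1 := fun h => by
      have := Nat.le_of_dvd (by omega) (orderOf_dvd_of_pow_eq_one h)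
      omega
    have hv2 : v * v = 1 := by rw [hv, ← pow_add, ← hm, pow_orderOf_eq_one]
    have hzv : Commute z v := by
      have h1 : z * (z * u) * z⁻¹ = (z * u)⁻¹ := by
        rw [inv_eq_of_mul_eq_one_left hz2, mul_inv_rev, inv_eq_of_mul_eq_one_left hz2,
          inv_eq_of_mul_eq_one_left hu2, ← mul_assoc, hz2, one_mul]
      have h2 : z * v * z⁻¹ = v := by
        rw [hv, ← conj_pow, h1, inv_pow]
        exact inv_eq_of_mul_eq_one_left hv2
      exact mul_inv_eq_iff_eq_mul.1 h2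
    have huv : Commute u v := by
      have h : Commute (z * u) v := (Commute.refl _).pow_right m
      have := hzv.mul_left h
      rwa [← mul_assoc, hz2, one_mul] at this
    have hvσ : σ v = 1 := by rw [hv, map_pow, map_mul, hzσ, one_mul, hudef, hconjσ, habσ, one_pow]
    exact hu (hCv (hCz' v hzv.symm) hv2 hv1 hvσ u huv)
  · obtain ⟨c, -, hc⟩ := Cfsg.Agent.Invol.exists_conj_of_odd hzo huo hodd
    exact hnc ((isConj_iff.2 ⟨g, rfl⟩ : IsConj (a * b) u).trans (isConj_iff.2 ⟨c, hc⟩ : IsConj z u).symm)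

/-- The embedded copy of `Fi₂₄` is everything. -/
theorem range_eq_top (hL : Loc D E σ)
    (phi : Fi24.G →* G) (hinj : Function.Injective phi) (hphi : ∀ x ∈ Fi24.D, phi x ∈ D)
    {a b z : G} (Q : Subgroup G) (ha : a ∈ D) (hb : b ∈ dperp D a) (hz2 : z * z = 1) (hz1 : z ≠ 1) (hzσ : σ z = 1)
    (haz : Commute a z) (hnc : ¬ IsConj (a * b) z) (hzQ : z ∈ Q) (hQa : ∀ q ∈ Q, Commute (q * a * q⁻¹) a)
    (hCt : ∀ x, Commute x (a * b) → x ∈ Q ⊔ Subgroup.centralizer {a})
    (hCz : ∀ x, Commute x z → σ x = 1 → x * (a * b) * x⁻¹ ∈ Q) : phi.range = ⊤ := by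
  have hgrp : IsThreeTranspositionGroup Fi24.D := class_toGroup Fi24.three_class
  obtain ⟨Y, _, _, E', hB⟩ := exists_base24 hgrp FischerTypes.F24.primitive FischerTypes.F24.isM24
  obtain ⟨g, hg⟩ := hL.trans _ (hphi _ (mem_conjugatesOf_self : Fi24.L ∈ Fi24.D)) a ha
  let psi : Fi24.G →* G := (MulAut.conj g).toMonoidHom.comp phi
  have h := range_eq_top_aux hL hgrp FischerTypes.F24.center_bot hB psi
    ((MulAut.conj g).injective.comp hinj) (fun x hx => hL.conj g _ (hphi x hx)) Q ha hb hz2 hz1 hzσ haz hnc hzQ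
    hQa hCt hCz (mem_conjugatesOf_self : Fi24.L ∈ Fi24.D) hg
  refine (Subgroup.eq_top_iff' _).2 fun y => ?_
  obtain ⟨x, hx⟩ : g * y * g⁻¹ ∈ psi.range := h ▸ Subgroup.mem_top _
  exact ⟨x, mul_left_cancel (mul_right_cancel hx)⟩

end Cfsg.Agent.M24Cent
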