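import Cfsg.Agent.ThreeTrans.InvolM23
import Cfsg.Agent.ThreeTrans.BaseM24
import Cfsg.Agent.M22Cent.Local

/-! The involutions of a group of type M(23): members, pairs and triples. -/

set_option autoImplicit false

open Cfsg
open Cfsg.Agent.ThreeTrans

universe u

namespace Cfsg.Agent.M24Cent

variable {G : Type u} [Group G] [Finite G] {D : Set G}

/-- three members with pairwise commutation, as a factorisation -/
theorem factor_triple {a b c : G} (ha : a ∈ D) (hb : b ∈ dperp D a) (hc : c ∈ dperp (dperp D a) b) :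
    Factor D 3 (a * b * c) [a, b, c] := by
  refine ⟨by simp [hb.2.1.symm, hc.1.2.1.symm, hc.2.1.symm], rfl, ?_, ?_, by simp [mul_assoc]⟩
  · simp only [List.mem_cons, List.not_mem_nil, or_false]
    rintro u (rfl | rfl | rfl)
    exacts [ha, hb.1, hc.1.1]
  · intro u hu v hv
    simp only [List.mem_cons, List.not_mem_nil, or_false] at hu hv
    rcases hu with rfl | rfl | rfl <;> rcases hv with rfl | rfl | rfl
    exacts [Commute.refl _, hb.2.2, hc.1.2.2, hb.2.2.symm, Commute.refl _, hc.2.2, hc.1.2.2.symm, hc.2.2.symm, Commute.refl _]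

/-- two commuting members, as a factorisation -/
theorem factor_pair {a b : G} (ha : a ∈ D) (hb : b ∈ dperp D a) : Factor D 2 (a * b) [a, b] := by
  refine ⟨by simp [hb.2.1.symm], rfl, ?_, ?_, by simp⟩
  · simp only [List.mem_cons, List.not_mem_nil, or_false]
    rintro u (rfl | rfl)
    exacts [ha, hb.1]
  · intro u hu v hv
    simp only [List.mem_cons, List.not_mem_nil, or_false] at hu hv
    rcases hu with rfl | rfl <;> rcases hv with rfl | rfl
    exacts [Commute.refl _, hb.2.2, hb.2.2.symm, Commute.refl _]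

variable (hD : IsThreeTranspositionGroup D) (h23 : IsOfTypeM23 G D)
include hD h23

/-- a product of two commuting members is none -/
theorem pair_notMem {a b : G} (ha : a ∈ D) (hb : b ∈ dperp D a) : a * b ∉ D := fun h => by
  have hp := prim_M23 hD h23
  obtain ⟨Y, _, _, E₀, hE₀, hcls₀, h22, hcov⟩ := exists_cover23 hD hp h23
  have := (involution_classes_M23 hD (class_of_primitive hD hp) (m23Data hD hp h23) hE₀ hcls₀ h22 hcov).2
    1 2 (a * b) le_rfl (by norm_num) (by norm_num) (by norm_num) ⟨_, factor_one h⟩ ⟨_, factor_pair ha hb⟩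
  omega

/-- every involution is a member or conjugate to a given pair or triple -/
theorem involution_cases {a b c τ : G} (ha : a ∈ D) (hb : b ∈ dperp D a) (hc : c ∈ dperp (dperp D a) b)
    (h2 : τ * τ = 1) (h1 : τ ≠ 1) : τ ∈ D ∨ IsConj τ (a * b) ∨ IsConj τ (a * b * c) := by
  have hp := prim_M23 hD h23
  obtain ⟨Y, _, _, E₀, hE₀, hcls₀, h22, hcov⟩ := exists_cover23 hD hp h23
  have hcls := class_of_primitive hD hp
  have hF := m23Data hD hp h23
  obtain ⟨n, hn1, hn3, l, hl⟩ := involution_M23 hD hcls hF hE₀ hcls₀ h22 hcov h2 h1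
  obtain ⟨h, -⟩ := involution_classes_M23 hD hcls hF hE₀ hcls₀ h22 hcov
  have hconj := fun x hx => (h n hn1 hn3).2 τ x ⟨l, hl⟩ hx
  interval_cases n
  · refine Or.inl ?_
    obtain ⟨g, hg⟩ := isConj_iff.1 (hconj a ⟨_, factor_one ha⟩).symm
    exact hg ▸ hD.2.1 g a ha
  · exact Or.inr (Or.inl (hconj _ ⟨_, factor_pair ha hb⟩))
  · exact Or.inr (Or.inr (hconj _ ⟨_, factor_triple ha hb hc⟩))

/-- triples have the smallest centralisers -/
theorem card_triple_le {a b c τ : G} (ha : a ∈ D) (hb : b ∈ dperp D a) (hc : c ∈ dperp (dperp D a) b)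
    (h2 : τ * τ = 1) (h1 : τ ≠ 1) :
    Nat.card ↥(Subgroup.centralizer ({a * b * c} : Set G)) ≤ Nat.card ↥(Subgroup.centralizer ({τ} : Set G)) := by
  have hp := prim_M23 hD h23
  obtain ⟨Y, _, _, E₀, hE₀, hcls₀, h22, hcov⟩ := exists_cover23 hD hp h23
  have hcls := class_of_primitive hD hp
  have hF := m23Data hD hp h23
  obtain ⟨e2, e3⟩ := card_centralizer_products hD hcls hF hE₀ hcls₀ h22 hcov ha hb hc
  have hsame : ∀ {x y : G}, IsConj x y →
      Nat.card ↥(Subgroup.centralizer ({x} : Set G)) = Nat.card ↥(Subgroup.centralizer ({y} : Set G)) := by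
    intro x y h
    obtain ⟨g, rfl⟩ := isConj_iff.1 h
    rw [M22Cent.centralizer_conj_eq]
    exact (Nat.card_congr (Subgroup.equivMapOfInjective _ (MulAut.conj g).toMonoidHom (MulAut.conj g).injective).toEquiv)
  rcases involution_cases hD h23 ha hb hc h2 h1 with h | h | h
  · rw [card_centralizer23 hD hcls hF hE₀ hcls₀ h22 hcov h]
    omega
  · rw [hsame h]
    omega
  · rw [hsame h]

end Cfsg.Agent.M24Cent
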