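import Cfsg.Agent.M24Cent.Local
import Cfsg.Agent.ThreeTrans.Y542.Chart

/-!
# Charts at a member of a class with such centralisers

The charts are those of `ThreeTrans.Y542`; what used 3-transpositions there uses the layers here.
-/

set_option autoImplicit false

open Cfsg

universe u

namespace Cfsg.Agent.M24Cent

open ThreeTrans
open ThreeTrans.Y332 (ev ev_append ev_cons ev_nil)
open ThreeTrans.Y542 (IsChart F23 gw)

variable {G : Type u} [Group G] [Finite G] {D : Set G} {X : Type u} [Group X] [Finite X] {E : Set X}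
  {σ : G →* ℤˣ}

/-- An even element fixing the product of two commuting members fixes the pair. -/
def PairRigid (D : Set G) (σ : G →* ℤˣ) : Prop :=
  ∀ a ∈ D, ∀ b ∈ dperp D a, ∀ y : G, σ y = 1 → Commute y (a * b) → y * a * y⁻¹ = a ∨ y * a * y⁻¹ = b

omit [Finite G] in
/-- An even element of order three commuting with the product of a pair commutes with its members. -/
theorem PairRigid.commute (hP : PairRigid D σ) {a b y : G} (ha : a ∈ D)
    (hb : b ∈ dperp D a) (hy : σ y = 1) (hy3 : y ^ 3 = 1) (hc : Commute y (a * b)) : Commute y a := by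
  have hab : a * b = b * a := hb.2.2.eq
  have ha' : a ∈ dperp D b := dperp_symm ha hb
  have key : ∀ w : G, w * a * w⁻¹ = a → Commute w a := fun w h => mul_inv_eq_iff_eq_mul.1 h
  rcases hP a ha b hb y hy hc with h1 | h1
  · exact key y h1
  -- the square fixes `a`
  rcases hP b hb.1 a ha' y hy (hab ▸ hc) with h2 | h2
  · exfalso
    refine hb.2.1 ?_
    have h : y * a * y⁻¹ = y * b * y⁻¹ := h1.trans h2.symm
    exact (mul_left_cancel (mul_right_cancel h)).symm
  have h3 : Commute (y * y) a := key _ (by
    calc y * y * a * (y * y)⁻¹ = y * (y * a * y⁻¹) * y⁻¹ := by group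
      _ = a := by rw [h1, h2])
  have e : y = y * y * (y * y) := by
    calc y = y ^ 3 * y := by rw [hy3, one_mul]
      _ = y * y * (y * y) := by simp only [pow_succ, pow_zero, one_mul, mul_assoc]
  rw [e]
  exact h3.mul_left h3

variable {l : G} {g : ℕ → G} {θ : ↥(Subgroup.centralizer ({l} : Set G)) →* F23}

/-- A conjugate of a member of the layer by a word is in it. -/
theorem Loc.conj_mem (hL : Loc D E σ) (hC : IsChart D σ l g θ) (u : List Nat) {y : G}
    (hy : y ∈ dperp D l) : ev g u.reverse * y * ev g u ∈ dperp D l := by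
  induction u generalizing y with
  | nil => simpa using hy
  | cons x u ih =>
    have e : ev g (x :: u).reverse * y * ev g (x :: u) =
        ev g u.reverse * (g x * y * (g x)⁻¹) * ev g u := by
      rw [hL.inv (hC.mem x).1, List.reverse_cons, ev_append, ev_cons, ev_cons, ev_nil, mul_one]
      simp only [mul_assoc]
    rw [e]
    refine ih ⟨hL.conj _ _ hy.1, fun h => hy.2.1 ?_, ?_⟩
    · have hc : Commute (g x) l := (hC.mem x).2.2.symm
      calc y = (g x)⁻¹ * (g x * y * (g x)⁻¹) * g x := by group
        _ = l := by rw [h, mul_assoc, ← hc.eq, inv_mul_cancel_left]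
    · exact ((hC.mem x).2.2.mul_right hy.2.2).mul_right (hC.mem x).2.2.inv_right

/-- Words with the shape of conjugates of generators are in the layer. -/
theorem Loc.word_mem (hL : Loc D E σ) (hC : IsChart D σ l g θ) (u : List Nat) (x : ℕ) :
    ev g (u.reverse ++ x :: u) ∈ dperp D l := by
  rw [ev_append, ev_cons, ← mul_assoc]
  exact hL.conj_mem hC u (hC.mem x)

/-- Every member has a chart. -/
theorem Loc.exists_chart (hL : Loc D E σ) {l : G} (hl : l ∈ D) :
    ∃ (g : ℕ → G) (θ : ↥(Subgroup.centralizer ({l} : Set G)) →* F23), IsChart D σ l g θ := by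
  obtain ⟨χ, ψ, -, hker, hagree, hiso⟩ := (hL.cov l hl).maps
  obtain ⟨e, he⟩ := Y342.exists_iso hL.group (prim_M23 hL.group hL.m23) hL.m23
  choose y hy hye using fun x : ℕ => hiso.bij.surjOn (he (CosetCert.Fi23Index31671.dec x).1)
  refine ⟨y, e.symm.toMonoidHom.comp χ, hl, hL.sgn, hy, fun x hx h => ?_, fun z => ?_, fun z hz h => ?_⟩
  · show e.symm (χ ⟨y x, h⟩) = gw [x]
    rw [← hagree ⟨y x, h⟩ (hy x), hye x, MulEquiv.symm_apply_apply]
    have hd : CosetCert.Fi23Index31671.dec x = ((CosetCert.Fi23Index31671.dec x).1, true) := by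
      unfold CosetCert.Fi23Index31671.dec; split <;> rfl
    rw [gw, List.map_singleton, hd]
    rfl
  · exact (MulEquiv.map_eq_one_iff e.symm).trans (hker z)
  · obtain ⟨-, ⟨d, -, hd⟩, -⟩ := class_of_primitive hL.group (prim_M23 hL.group hL.m23)
    have h1 : ψ z ∈ E := hiso.bij.mapsTo hz
    have h0 : e (gw [0]) ∈ E := he _
    rw [hd] at h1 h0
    have h2 : IsConj (e (gw [0])) (χ ⟨z, h⟩) := by
      rw [← hagree ⟨z, h⟩ hz]; exact (IsConj.symm h0).trans h1
    simpa using e.symm.toMonoidHom.map_isConj h2

end Cfsg.Agent.M24Cent
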