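import Cfsg.Agent.M24Cent.Chart
import Cfsg.Agent.ThreeTrans.Y542.Config

/-!
# Members with the pattern of the graph of Fi₂₄

The proof of `ThreeTrans.Y542.exists_cfg24`, from `Loc` alone.
-/

set_option autoImplicit false
set_option maxRecDepth 100000

open Cfsg

universe u

namespace Cfsg.Agent.M24Cent

open ThreeTrans ThreeTrans.Y542
open ThreeTrans.Y332 (ev ev_append ev_cons ev_nil pw ev_pw)

variable {G : Type u} [Group G] [Finite G] {D : Set G} {X : Type u} [Group X] [Finite X] {E : Set X}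
  {σ : G →* ℤˣ}

/-- Two layers deep: a class of type M(22). -/
theorem Loc.layers_pair (hL : Loc D E σ) {a b : G} (ha : a ∈ D) (hb : b ∈ dperp D a) :
    ∃ (Y : Type u) (_ : Group Y) (_ : Finite Y) (E₀ : Set Y) (ρ : G → Y),
      IsThreeTranspositionGroup E₀ ∧ IsOfTypeM22 Y E₀ ∧ SetIso (dperp (dperp D a) b) E₀ ρ := by
  obtain ⟨χ, ψ, -, -, -, hψ⟩ := (hL.cov a ha).maps
  obtain ⟨Y, _, _, E₀, hE₀, -, h22, hcov⟩ :=
    exists_cover23 hL.group (prim_M23 hL.group hL.m23) hL.m23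
  obtain ⟨χ', ψ', -, -, -, hiso⟩ := (hcov _ (hψ.bij.mapsTo hb)).maps
  exact ⟨Y, inferInstance, inferInstance, E₀, _, hE₀, h22, (hψ.restrict hb).trans hiso⟩

/-- A chart at the member `l` and a member `k` with the pattern of the graph. -/
theorem Loc.exists_cfg (hL : Loc D E σ) {l : G} (hl : l ∈ D) :
    ∃ (k : G) (g : ℕ → G) (θ : ↥(Subgroup.centralizer ({l} : Set G)) →* F23),
      IsChart D σ l g θ ∧ k ∈ D ∧ ¬ Commute k l ∧ ∀ x < 10, (Commute k (g x) ↔ x ≠ 0) := by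
  obtain ⟨g, θ, hC⟩ := hL.exists_chart hl
  have hg1 : ∀ x, ev g [x] = g x := fun x => by simp
  set w := ev g wW with hw
  have hwl : w ∈ dperp D l := hL.word_mem hC pathW 0
  have hlw : l ∈ dperp D w := dperp_symm hl hwl
  obtain ⟨χ, ψ, -, hker, hagree, hiso⟩ := (hL.cov w hwl.1).maps
  -- the nine generators, reversed, in the layer of `w`
  set p : ℕ → G := fun x => g (tn (Fi22Out.sigma x)) with hp
  have hpw : ∀ x < 9, p x ∈ dperp D w := by
    intro x hx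
    have h := List.all_eq_true.1 end_checks x (List.mem_range.2 hx)
    simp only [Bool.and_eq_true] at h
    refine ⟨(hC.mem _).1, fun e => ?_, ?_⟩
    · refine hC.ev_ne (u := [tn (Fi22Out.sigma x)]) (v := wW) ?_ (by decide +kernel) h.2
        (by rw [hg1]; exact e)
      have := h.1
      simp only [cmCheck, Bool.and_eq_true] at this
      exact this.1.1
    · have := hC.commute_ev h.1
      rw [hg1] at this
      exact this.symm
  set y : ℕ → X := fun x => ψ (p x) with hy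
  have hcfg : ThreeTrans.Y332.Cfg E y := by
    refine ⟨fun x hx => hiso.bij.mapsTo (hpw x hx), fun x hx x' hx' => ?_⟩
    rw [hy, hiso.comm _ (hpw x hx) _ (hpw x' hx')]
    have h := List.all_eq_true.1 (List.all_eq_true.1 adjσ_checks x (List.mem_range.2 hx)) x'
      (List.mem_range.2 hx')
    split_ifs at h with hadj
    · refine iff_of_false ?_ (by simp [hadj])
      have := hC.not_commute_ev h
      rwa [hg1, hg1] at this
    · refine iff_of_true ?_ (by simpa using hadj)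
      have := hC.commute_ev h
      rwa [hg1, hg1] at this
  set L := ψ l
  have hLE : L ∈ E := hiso.bij.mapsTo hlw
  have hyL : ∀ x < 9, y x ∈ dperp E L := fun x hx =>
    ⟨hiso.bij.mapsTo (hpw x hx), fun e => (hC.mem _).2.1 (hiso.bij.injOn (hpw x hx) hlw e),
      (hiso.comm _ hlw _ (hpw x hx)).2 (hC.mem _).2.2⟩
  have hwlt : ∀ x ∈ pw ThreeTrans.Y332.wx' 9, x < 9 := by decide
  have hx' : ev y (pw ThreeTrans.Y332.wx' 9) = 1 := by
    have key : ∀ v : List ℕ, (∀ x ∈ v, x < 9) → ∃ h : ev g (v.map (tn ∘ Fi22Out.sigma)) ∈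
        Subgroup.centralizer ({w} : Set G), χ ⟨_, h⟩ = ev y v := by
      intro v
      induction v with
      | nil => exact fun _ => ⟨one_mem _, map_one χ⟩
      | cons x v ih =>
        intro hv
        simp only [List.mem_cons, forall_eq_or_imp] at hv
        obtain ⟨h, he⟩ := ih hv.2
        refine ⟨mul_mem (dperp_le (hpw x hv.1)) h, ?_⟩
        show χ (⟨p x, dperp_le (hpw x hv.1)⟩ * ⟨_, h⟩) = ψ (p x) * ev y v
        rw [map_mul, he, hagree ⟨p x, dperp_le (hpw x hv.1)⟩ (hpw x hv.1)]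
    obtain ⟨h, he⟩ := key _ hwlt
    rw [← he]
    exact (hker _).2 (Or.inr (hC.ev_eq end_pow.1 end_pow.2.1 end_pow.2.2))
  obtain ⟨J, hJ, hLJ, hyJ⟩ := Y542.extend hL.group (prim_M23 hL.group hL.m23) hL.m23 hLE hcfg hyL hx'
  obtain ⟨k, hk, rfl⟩ := hiso.bij.surjOn hJ
  have hkl : ¬ Commute k l := fun h => hLJ ((hiso.comm _ hlw _ hk).2 h.symm)
  have hkg : ∀ x < 9, (Commute (p x) k ↔ x ≠ 6) := fun x hx =>
    (hiso.comm _ (hpw x hx) _ hk).symm.trans (hyJ x hx)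
  have hk9 : ∀ x < 10, x ≠ 7 → (Commute k (g x) ↔ x ≠ 0) := by
    intro x hx hx7
    obtain ⟨x', hx', hxe, h60⟩ : ∃ x' < 9, tn (Fi22Out.sigma x') = x ∧ (x' = 6 ↔ x = 0) := by
      interval_cases x
      exacts [⟨6, by decide⟩, ⟨5, by decide⟩, ⟨4, by decide⟩, ⟨3, by decide⟩, ⟨2, by decide⟩,
        ⟨1, by decide⟩, ⟨0, by decide⟩, absurd rfl hx7, ⟨7, by decide⟩, ⟨8, by decide⟩]
    have h := hkg x' hx'
    rw [show p x' = g x from congrArg g hxe, Commute.symm_iff, ne_eq, h60] at h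
    exact h
  refine ⟨k, g, θ, hC, hk.1, hkl, fun x hx => ?_⟩
  rcases eq_or_ne x 7 with rfl | hx7
  swap
  · exact hk9 x hx hx7
  refine iff_of_true ?_ (by norm_num)
  -- the two ends commute, by the layer of `d` and `i`
  have hc := layer_checks
  simp only [inDI, Bool.and_eq_true] at hc
  obtain ⟨⟨⟨⟨⟨⟨c1, cu⟩, c5⟩, c6⟩, cw⟩, cv⟩, c7⟩ := hc
  have hpc := patt_checks
  simp only [Bool.and_eq_true] at hpc
  have h39 : g 9 ∈ dperp D (g 3) := by
    refine ⟨(hC.mem 9).1, fun e => ?_, ?_⟩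
    · exact hC.ev_ne (u := [9]) (v := [3]) rfl rfl hpc.2 (by rw [hg1, hg1]; exact e)
    · have := hC.commute_ev hpc.1.2
      rwa [hg1, hg1] at this
  obtain ⟨Y, _, _, E₀, ρ, hE₀, h22, hρ⟩ := hL.layers_pair (hC.mem 3).1 h39
  have lt_of : ∀ {u : List Nat}, cmCheck [3] u = true → lt10 u = true := fun h => by
    simp only [cmCheck, Bool.and_eq_true] at h
    exact h.1.2
  have inS : ∀ {u : List Nat}, ev g u ∈ D → ((cmCheck [3] u = true ∧ neCheck ([3] ++ u.reverse) = true) ∧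
      cmCheck [9] u = true) ∧ neCheck ([9] ++ u.reverse) = true →
      ev g u ∈ dperp (dperp D (g 3)) (g 9) := fun {u} hu h => by
    refine ⟨⟨hu, fun e => ?_, ?_⟩, fun e => ?_, ?_⟩
    · exact hC.ev_ne (u := [3]) rfl (lt_of h.1.1.1) h.1.1.2 (by rw [hg1]; exact e.symm)
    · simpa [hg1] using hC.commute_ev h.1.1.1
    · exact hC.ev_ne (u := [9]) rfl (lt_of h.1.1.1) h.2 (by rw [hg1]; exact e.symm)
    · simpa [hg1] using hC.commute_ev h.1.2
  have hmem1 : ∀ x, ev g [x] ∈ D := fun x => by rw [hg1]; exact (hC.mem x).1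
  have hlS : l ∈ dperp (dperp D (g 3)) (g 9) :=
    ⟨⟨hl, (hC.mem 3).2.1.symm, (hC.mem 3).2.2.symm⟩, (hC.mem 9).2.1.symm, (hC.mem 9).2.2.symm⟩
  have hk3 : Commute k (g 3) := (hk9 3 (by norm_num) (by norm_num)).2 (by norm_num)
  have hk9' : Commute k (g 9) := (hk9 9 (by norm_num) (by norm_num)).2 (by norm_num)
  have hkS : k ∈ dperp (dperp D (g 3)) (g 9) :=
    ⟨⟨hk.1, fun e => hkl (e ▸ (hC.mem 3).2.2.symm), hk3.symm⟩,
      fun e => hkl (e ▸ (hC.mem 9).2.2.symm), hk9'.symm⟩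
  have h1 : ev g [1] ∈ dperp (dperp D (g 3)) (g 9) := inS (hmem1 1) c1
  have hu : ev g uW' ∈ dperp (dperp D (g 3)) (g 9) := inS (hL.word_mem hC [3, 2] 4).1 cu
  have h5 : ev g [5] ∈ dperp (dperp D (g 3)) (g 9) := inS (hmem1 5) c5
  have h6 : ev g [6] ∈ dperp (dperp D (g 3)) (g 9) := inS (hmem1 6) c6
  have hwS : w ∈ dperp (dperp D (g 3)) (g 9) := inS hwl.1 cw
  have hv : ev g vW' ∈ dperp (dperp D (g 3)) (g 9) :=
    inS (hL.word_mem hC [3, 2, 8, 3, 9, 8] 4).1 cv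
  have h7 : ev g [7] ∈ dperp (dperp D (g 3)) (g 9) := inS (hmem1 7) c7
  have hkev : ∀ u : List ℕ, (∀ x ∈ u, x < 10 ∧ x ≠ 7 ∧ x ≠ 0) → Commute k (ev g u) := by
    intro u
    induction u with
    | nil => exact fun _ => Commute.one_right k
    | cons x u ih =>
      intro hu'
      simp only [List.mem_cons, forall_eq_or_imp] at hu'
      rw [ev_cons]
      exact ((hk9 x hu'.1.1 hu'.1.2.1).2 hu'.1.2.2).mul_right (ih hu'.2)
  have pp : ∀ {u : G}, u ∈ dperp (dperp D (g 3)) (g 9) → Commute l u → Commute k u →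
      ρ u ∈ pairPerp E₀ (ρ l) (ρ k) := fun hu' h1' h2' =>
    ⟨hρ.bij.mapsTo hu', (hρ.comm _ hlS _ hu').2 h1', (hρ.comm _ hkS _ hu').2 h2'⟩
  have cl : ∀ u, Commute l (ev g u) := fun u =>
    (Subgroup.mem_centralizer_singleton_iff.1 (hC.ev_mem u)).symm
  have cm : ∀ {u v : G}, u ∈ dperp (dperp D (g 3)) (g 9) → v ∈ dperp (dperp D (g 3)) (g 9) →
      Commute u v → Commute (ρ u) (ρ v) := fun a b c => (hρ.comm _ a _ b).2 c
  have nm : ∀ {u v : G}, u ∈ dperp (dperp D (g 3)) (g 9) → v ∈ dperp (dperp D (g 3)) (g 9) →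
      ¬ Commute u v → ¬ Commute (ρ u) (ρ v) := fun a b c h => c ((hρ.comm _ a _ b).1 h)
  obtain ⟨⟨⟨⟨⟨⟨⟨⟨⟨⟨⟨⟨⟨⟨⟨⟨⟨⟨⟨⟨⟨⟨⟨q1, q2⟩, q3⟩, q4⟩, q5⟩, q6⟩, q7⟩, q8⟩, q9⟩, q10⟩, q11⟩, q12⟩, q13⟩,
    q14⟩, q15⟩, q16⟩, q17⟩, q18⟩, q19⟩, q20⟩, q21⟩, q22⟩, -⟩, -⟩ := hpc
  have hjS : ρ (ev g [7]) ∈ dperp E₀ (ρ l) := ⟨hρ.bij.mapsTo h7, fun e => (hC.mem 7).2.1
    (by rw [← hg1 7]; exact hρ.bij.injOn h7 hlS e), cm hlS h7 (cl _)⟩
  have := commute_ends hE₀ h22 (hρ.bij.mapsTo hlS) (hρ.bij.mapsTo hkS)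
    (nm hlS hkS fun h => hkl h.symm)
    (pp h1 (cl _) (hkev _ (by decide))) (pp hu (cl _) (hkev _ (by decide)))
    (pp h5 (cl _) (hkev _ (by decide))) (pp h6 (cl _) (hkev _ (by decide)))
    (pp hwS (cl _) hk.2.2.symm) (pp hv (cl _) (hkev _ (by decide))) hjS
    (nm h1 hu (hC.not_commute_ev q1)) (nm hu h5 (hC.not_commute_ev q2))
    (nm h5 h6 (hC.not_commute_ev q3)) (cm h1 h5 (hC.commute_ev q4)) (cm h1 h6 (hC.commute_ev q5))
    (cm hu h6 (hC.commute_ev q6)) (cm hwS h1 (hC.commute_ev q7)) (cm hwS hu (hC.commute_ev q8))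
    (cm hwS h5 (hC.commute_ev q9)) (cm hwS h6 (hC.commute_ev q10))
    (fun e => hC.ev_ne (u := vW') (v := uW') (lt_of cv.1.1.1) (lt_of cu.1.1.1) q11
      (hρ.bij.injOn hv hu e))
    (nm h1 hv (hC.not_commute_ev q12)) (cm hu hv (hC.commute_ev q13))
    (nm h5 hv (hC.not_commute_ev q14)) (cm h6 hv (hC.commute_ev q15)) (cm hwS hv (hC.commute_ev q16))
    (cm h1 h7 (hC.commute_ev q17)) (cm hu h7 (hC.commute_ev q18)) (cm h5 h7 (hC.commute_ev q19))
    (nm h6 h7 (hC.not_commute_ev q20)) (nm hwS h7 (hC.not_commute_ev q21))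
    (cm hv h7 (hC.commute_ev q22))
  have h := (hρ.comm _ hkS _ h7).1 this
  rwa [hg1] at h

end Cfsg.Agent.M24Cent
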